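import Cfsg.Agent.Lib.ClassSquare.TitsSq.Cert

/-!
The certificate on the Weyl elements 12 and 13.
-/

set_option autoImplicit false
set_option maxRecDepth 100000

namespace CfsgLib.ClassSquare.TitsSq

set_option maxHeartbeats 0 in
theorem block12 : blockOK 12 = true := by
  decide +kernel

set_option maxHeartbeats 0 in
theorem block13 : blockOK 13 = true := by
  decide +kernel

end CfsgLib.ClassSquare.TitsSq
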