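import Cfsg.Agent.Lib.ClassSquare.TitsSq.Frame
import Cfsg.Agent.Lib.ClassSquare.TitsSq.Data

/-!
The certificate: each even normal form is conjugate to one of lower rank, and those of rank zero are
the representatives.
-/

set_option autoImplicit false
set_option maxRecDepth 100000

namespace CfsgLib.ClassSquare.TitsSq

open Cfsg.Lie CfsgLib.Chev CfsgLib.Chev.F4Two CfsgLib.Tits.Packed

/-- The auxiliary conjugating words. -/
noncomputable def xW (j : ℕ) : List ℕ :=
  if j < 15 then mW (j + 1) else orbWord (reps12.getD (j - 15) 24)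

/-- The tables agree with the words. -/
noncomputable def tablesOK : Bool :=
  ((List.range 64).all fun a => tabOK (hiW a) (hT a)) &&
    (((List.range 64).all fun b => tabOK (loW b) (lT b)) &&
      (((List.range 16).all fun k => tabOK (mW k) (mT k)) &&
        ((List.range 27).all fun j => tabOK (xW j) (xT j))))

set_option maxHeartbeats 0 in
theorem tables_chk : tablesOK = true := by decide +kernel

/-- The entry of a code. -/
def entry (n : ℕ) : ℕ :=
  (((cdata (n / 4096)).getD (n / 64 % 64) 0) >>> (48 * (n % 64))) % 2 ^ 48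

/-- The rank of a code. -/
def rankOf (n : ℕ) : ℕ := entry n >>> 33

/-- The conjugating piece indices and the target. -/
def stepTo (n : ℕ) : ℕ := (entry n >>> 17) % 65536

/-- The tables of a code. -/
def tEl2 (n : ℕ) : List (List (ℕ × ℕ)) := [hT (n / 64 % 64), lT (n % 64), mT (n / 4096)]

/-- The tables of the conjugator at a code. -/
def tConj (n : ℕ) : List (List (ℕ × ℕ)) :=
  [hT (entry n / 32 / 64 % 64), lT (entry n / 32 % 64), xT (entry n % 32)]

/-- The word of a code. -/
noncomputable def wEl (n : ℕ) : List ℕ := elW (n / 4096) (n / 64 % 64) (n % 64)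

/-- The word of the conjugator at a code. -/
noncomputable def wConj (n : ℕ) : List ℕ :=
  hiW (entry n / 32 / 64 % 64) ++ (loW (entry n / 32 % 64) ++ xW (entry n % 32))

/-- One check. -/
noncomputable def entryOK (n : ℕ) : Bool :=
  if rankOf n = 0 then repCodes.contains n
  else decide (entry n % 32 < 27) && (decide (rankOf (stepTo n) < rankOf n) &&
    (!oddU (stepTo n / 64 % 64) (stepTo n % 64) &&
      (apPs (tConj n ++ tEl2 n) unitsP == apPs (tEl2 (stepTo n) ++ tConj n) unitsP)))

/-- The checks of one Weyl element and a range of high parts. -/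
noncomputable def blockOK (k : ℕ) : Bool :=
  (List.range 64).all fun a => (List.range 64).all fun b =>
    oddU a b || entryOK (k * 4096 + a * 64 + b)

theorem entryOK_of_block {n : ℕ} (hb : ∀ k < 16, blockOK k = true) (hn : n < 65536)
    (he : oddU (n / 64 % 64) (n % 64) = false) : entryOK n = true := by
  have h := hb (n / 4096) (by omega)
  simp only [blockOK, List.all_eq_true, List.mem_range, Bool.or_eq_true] at h
  have h1 := (h (n / 64 % 64) (Nat.mod_lt _ (by norm_num)) (n % 64) (Nat.mod_lt _ (by norm_num)))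
  rw [he, show n / 4096 * 4096 + n / 64 % 64 * 64 + n % 64 = n by omega] at h1
  exact h1.resolve_left Bool.false_ne_true

theorem wd_conj {n : ℕ} (hn : n < 65536) (hj : entry n % 32 < 27)
    (h : apPs (tConj n ++ tEl2 n) unitsP = apPs (tEl2 (stepTo n) ++ tConj n) unitsP) :
    Wd (wConj n) * Wd (wEl n) = Wd (wEl (stepTo n)) * Wd (wConj n) := by
  have hT := tables_chk
  simp only [tablesOK, Bool.and_eq_true, List.all_eq_true, List.mem_range] at hT
  obtain ⟨t1, t2, t3, t4⟩ := hT
  have hs : stepTo n < 65536 := Nat.mod_lt _ (by norm_num)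
  let ph : ℕ → Piece := fun a => (hiW a, TitsSq.hT a)
  let pl : ℕ → Piece := fun b => (loW b, lT b)
  let pm : ℕ → Piece := fun k => (mW k, mT k)
  let px : ℕ → Piece := fun j => (xW j, xT j)
  have rh : ∀ a < 64, Rep (ph a).1 (ph a).2 := fun a ha => rep_of_tabOK (t1 a ha)
  have rl : ∀ b < 64, Rep (pl b).1 (pl b).2 := fun b hb => rep_of_tabOK (t2 b hb)
  have rm : ∀ k < 16, Rep (pm k).1 (pm k).2 := fun k hk => rep_of_tabOK (t3 k hk)
  have rx : ∀ j < 27, Rep (px j).1 (px j).2 := fun j hj => rep_of_tabOK (t4 j hj)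
  have m64 : ∀ x : ℕ, x % 64 < 64 := fun x => Nat.mod_lt _ (by norm_num)
  have e := Wd_eq_of_pieces
    (ps := [ph (entry n / 32 / 64 % 64), pl (entry n / 32 % 64), px (entry n % 32),
      ph (n / 64 % 64), pl (n % 64), pm (n / 4096)])
    (qs := [ph (stepTo n / 64 % 64), pl (stepTo n % 64), pm (stepTo n / 4096),
      ph (entry n / 32 / 64 % 64), pl (entry n / 32 % 64), px (entry n % 32)])
    (by
      intro p hp
      simp only [List.mem_cons, List.not_mem_nil, or_false] at hp
      rcases hp with rfl | rfl | rfl | rfl | rfl | rfl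
      exacts [rh _ (m64 _), rl _ (m64 _), rx _ hj, rh _ (m64 _), rl _ (m64 _), rm _ (by omega)])
    (by
      intro p hp
      simp only [List.mem_cons, List.not_mem_nil, or_false] at hp
      rcases hp with rfl | rfl | rfl | rfl | rfl | rfl
      exacts [rh _ (m64 _), rl _ (m64 _), rm _ (by omega), rh _ (m64 _), rl _ (m64 _), rx _ hj])
    h
  rw [← Wd_append, ← Wd_append]
  simpa only [pWord, ph, pl, pm, px, List.map_cons, List.map_nil, List.flatten_cons,
    List.flatten_nil, List.append_nil, wConj, wEl, elW, List.append_assoc] using e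

theorem mem_G2_hiW {a : ℕ} (ha : a < 64) : ∃ x, Img (hiW a) x := by
  obtain ⟨al, hal, himg⟩ := imgs
  exact ⟨_, img_cands hal (reps12.take 6) (fun r hr => himg r (List.mem_of_mem_take hr))
    ((cands (reps12.take 6)).getD a ([], false)) (by
      rw [List.getD_eq_getElem _ _ (split_chk.2.1.symm ▸ ha)]
      exact List.getElem_mem _)⟩

theorem mem_G2_loW {b : ℕ} (hb : b < 64) : ∃ x, Img (loW b) x := by
  obtain ⟨al, hal, himg⟩ := imgs
  exact ⟨_, img_cands hal (reps12.drop 6) (fun r hr => himg r (List.mem_of_mem_drop hr))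
    ((cands (reps12.drop 6)).getD b ([], false)) (by
      rw [List.getD_eq_getElem _ _ (split_chk.2.2.1.symm ▸ hb)]
      exact List.getElem_mem _)⟩

theorem canon_lt {k : ℕ} (hk : k < 16) : ∀ j ∈ canon.getD k [], j < 2 := by
  have hk' : k < canon.length := split_chk.2.2.2.symm ▸ hk
  have hchk := weylChk_all
  simp only [List.all_eq_true, Bool.and_eq_true, decide_eq_true_eq] at hchk
  rw [List.getD_eq_getElem _ _ hk']
  exact (hchk _ (List.getElem_mem hk')).2

theorem mem_G2_mW {k : ℕ} (hk : k < 16) : Img (mW k) 1 := img_clsLetters (canon_lt hk)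

theorem mem_G2_xW {j : ℕ} (hj : j < 27) : ∃ x, Img (xW j) x := by
  rw [xW]
  by_cases h : j < 15
  · rw [if_pos h]; exact ⟨1, mem_G2_mW (by omega)⟩
  · rw [if_neg h]
    obtain ⟨al, hal, himg⟩ := imgs
    have hl : j - 15 < reps12.length := by simp [reps12]; omega
    exact ⟨_, himg _ (by rw [List.getD_eq_getElem _ _ hl]; exact List.getElem_mem hl)⟩

theorem mem_G2_wConj {n : ℕ} (hj : entry n % 32 < 27) : Wd (wConj n) ∈ G2 := by
  obtain ⟨x1, h1⟩ := mem_G2_hiW (Nat.mod_lt (entry n / 32 / 64) (show 0 < 64 by norm_num))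
  obtain ⟨x2, h2⟩ := mem_G2_loW (Nat.mod_lt (entry n / 32) (show 0 < 64 by norm_num))
  obtain ⟨x3, h3⟩ := mem_G2_xW hj
  exact (h1.append (h2.append h3)).choose

/-- A property invariant under conjugation holds everywhere if it holds on the representatives. -/
theorem forall_of_reps {P : Matrix.GeneralLinearGroup chevF4.Idx (ZMod 2) → Prop}
    (hconj : ∀ z, P z → ∀ h ∈ G2, P (h * z * h⁻¹)) (hb : ∀ k < 16, blockOK k = true)
    (hreps : ∀ n ∈ repCodes, P (Wd (wEl n))) {n : ℕ} (hn : n < 65536)
    (he : oddU (n / 64 % 64) (n % 64) = false) : P (Wd (wEl n)) := by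
  induction hr : rankOf n using Nat.strong_induction_on generalizing n with
  | _ r ih =>
    have h := entryOK_of_block hb hn he
    rw [entryOK] at h
    split_ifs at h with h0
    · exact hreps n (by simpa using h)
    · simp only [Bool.and_eq_true, decide_eq_true_eq, beq_iff_eq, Bool.not_eq_true'] at h
      obtain ⟨hj, hlt, heven, heq⟩ := h
      have e := wd_conj hn hj heq
      have hP : P (Wd (wEl (stepTo n))) :=
        ih _ (hr ▸ hlt) (Nat.mod_lt _ (by norm_num)) heven rfl
      have h2 := hconj _ hP _ (inv_mem (mem_G2_wConj hj))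
      rwa [show (Wd (wConj n))⁻¹ * Wd (wEl (stepTo n)) * (Wd (wConj n))⁻¹⁻¹ = Wd (wEl n) by
        rw [inv_inv, mul_assoc, ← e, inv_mul_cancel_left]] at h2

end CfsgLib.ClassSquare.TitsSq
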