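import Cfsg.Agent.Lib.Tits.Eval

/-!
Linear maps of `F₂^52` given by the deviations of their columns from the identity, applied to all
unit vectors at once in the lanes of one number.
-/

set_option autoImplicit false
set_option maxRecDepth 100000

namespace CfsgLib.ClassSquare.TitsSq

open Cfsg.Lie Matrix CfsgLib.Chev CfsgLib.Chev.F4Two CfsgLib.Tits.Packed

/-- One bit at the bottom of each lane. -/
def onesLit : ℕ := 36467487875449628609104165986984175437732563446479602459146845354532430960266498623929498472454392240200424916171529991286723314674495228826324166915434938878054145512031418915898177796236146134764853022307774724341990537680772354443541131080579374490400883095336710377039081003618301221751844627856284437299055507487949060414114585724958335553888408391834243115628518594061658952662911783136902967847823421357227438781335551981775771831856521124567346710305548938406135127059927319647888167138484440902061006470641438510573444071456468923776811999891775340103254557840045702165463942779466746376927858812978141348678034835625633680571090538124081237997171598741019993537269837358309490358337391527955579268109685107725928415914582707673517103136233042184509363967333975833096665793895409515606736560522105729579542790378922461288308221744545839128154900293070740653890733722148446272695335197395649093854407631266376378627939990131814292826390306587649805273702119888843053429948417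

theorem onesLit_eq : onesLit = ones := by decide +kernel

/-- A table on all lanes. -/
noncomputable def apP (L : List (ℕ × ℕ)) (X : ℕ) : ℕ :=
  L.rec X fun q _ ih => Nat.xor ih (Nat.mul (Nat.land (Nat.shiftRight X q.1) 36467487875449628609104165986984175437732563446479602459146845354532430960266498623929498472454392240200424916171529991286723314674495228826324166915434938878054145512031418915898177796236146134764853022307774724341990537680772354443541131080579374490400883095336710377039081003618301221751844627856284437299055507487949060414114585724958335553888408391834243115628518594061658952662911783136902967847823421357227438781335551981775771831856521124567346710305548938406135127059927319647888167138484440902061006470641438510573444071456468923776811999891775340103254557840045702165463942779466746376927858812978141348678034835625633680571090538124081237997171598741019993537269837358309490358337391527955579268109685107725928415914582707673517103136233042184509363967333975833096665793895409515606736560522105729579542790378922461288308221744545839128154900293070740653890733722148446272695335197395649093854407631266376378627939990131814292826390306587649805273702119888843053429948417)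 q.2)

theorem apP_cons (q : ℕ × ℕ) (L : List (ℕ × ℕ)) (X : ℕ) :
    apP (q :: L) X = apP L X ^^^ ((X >>> q.1) &&& ones) * q.2 := by
  rw [← onesLit_eq]; rfl

/-- A table on one vector. -/
def apD : List (ℕ × ℕ) → ℕ → ℕ
  | [], v => v
  | q :: L, v => if v.testBit q.1 then apD L v ^^^ q.2 else apD L v

/-- The bounds on a table. -/
def boundOK (L : List (ℕ × ℕ)) : Prop := ∀ q ∈ L, q.1 < 52 ∧ q.2 < 2 ^ 52

theorem apD_lt : ∀ {L : List (ℕ × ℕ)}, boundOK L → ∀ {v : ℕ}, v < 2 ^ 52 → apD L v < 2 ^ 52
  | [], _, _, hv => hv
  | q :: L, hL, v, hv => by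
    have ih := apD_lt (L := L) (fun r hr => hL r (List.mem_cons_of_mem _ hr)) hv
    rw [apD]
    split_ifs
    · exact Nat.xor_lt_two_pow ih (hL q List.mem_cons_self).2
    · exact ih

theorem apD_xor : ∀ (L : List (ℕ × ℕ)) (v w : ℕ), apD L (v ^^^ w) = apD L v ^^^ apD L w
  | [], _, _ => rfl
  | q :: L, v, w => by
    refine Nat.eq_of_testBit_eq fun i => ?_
    simp only [apD, Nat.testBit_xor, apD_xor L v w]
    rcases v.testBit q.1 <;> rcases w.testBit q.1 <;>
      simp only [Nat.testBit_xor, Bool.false_bne, Bool.true_bne, Bool.not_false, Bool.not_true,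
        Bool.false_eq_true, if_false, if_true] <;>
      cases (apD L v).testBit i <;> cases (apD L w).testBit i <;> cases q.2.testBit i <;> rfl

theorem lane_apP : ∀ {L : List (ℕ × ℕ)}, boundOK L → ∀ {k : ℕ}, k < 52 → ∀ X : ℕ,
    lane (apP L X) k = apD L (lane X k)
  | [], _, _, _, _ => rfl
  | q :: L, hL, k, hk, X => by
    obtain ⟨h1, h2⟩ := hL q List.mem_cons_self
    rw [apP_cons, lane_xor, lane_sel X (by omega) (h2.trans (by norm_num)) hk,
      lane_apP (fun r hr => hL r (List.mem_cons_of_mem _ hr)) hk X, apD]
    split_ifs <;> simp

/-- The table acts as the word. -/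
def Rep (w : List ℕ) (L : List (ℕ × ℕ)) : Prop :=
  boundOK L ∧ ∀ v < 2 ^ 52,
    (Wd w : Matrix chevF4.Idx chevF4.Idx (ZMod 2)) *ᵥ phi v = phi (apD L v)

theorem phi_xor (v w : ℕ) : phi (v ^^^ w) = phi v + phi w :=
  funext fun i => bit_xor v w (enc i)

theorem phi_zero : phi 0 = 0 := funext fun i => bit_zero (enc i)

theorem apD_zero : ∀ L : List (ℕ × ℕ), apD L 0 = 0
  | [] => rfl
  | q :: L => by rw [apD, apD_zero L]; simp

/-- The check of one table. -/
noncomputable def tabOK (w : List ℕ) (L : List (ℕ × ℕ)) : Bool :=
  (L.all fun q => decide (q.1 < 52) && decide (q.2 < 2 ^ 52)) &&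
    ((w.all fun r => decide (r < 48)) && (evalP w unitsP == apP L unitsP))

theorem rep_of_tabOK {w : List ℕ} {L : List (ℕ × ℕ)} (h : tabOK w L = true) : Rep w L := by
  simp only [tabOK, Bool.and_eq_true, List.all_eq_true, decide_eq_true_eq, beq_iff_eq] at h
  obtain ⟨hb, hw, he⟩ := h
  refine ⟨hb, ?_⟩
  have hl := lane_unitsP
  simp only [List.all_eq_true, List.mem_range, beq_iff_eq] at hl
  have hcol : ∀ c < 52, evalW w (2 ^ c) = apD L (2 ^ c) := fun c hc => by
    rw [← hl c hc, ← lane_evalP hc unitsP hw, ← lane_apP hb hc, he]
  suffices ∀ n ≤ 52, ∀ v < 2 ^ n,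
      (Wd w : Matrix chevF4.Idx chevF4.Idx (ZMod 2)) *ᵥ phi v = phi (apD L v) from
    this 52 le_rfl
  intro n
  induction n with
  | zero =>
    intro _ v hv
    obtain rfl : v = 0 := by simpa using hv
    rw [apD_zero, phi_zero, Matrix.mulVec_zero]
  | succ n ih =>
    intro hn v hv
    by_cases hb' : v.testBit n
    · have hlt : v ^^^ 2 ^ n < 2 ^ n := by
        refine Nat.lt_pow_two_of_testBit _ fun i hi => ?_
        rw [Nat.testBit_xor, Nat.testBit_two_pow]
        rcases Nat.eq_or_lt_of_le hi with rfl | hi'
        · simp [hb']
        · simp [Nat.testBit_lt_two_pow (hv.trans_le (Nat.pow_le_pow_right two_pos hi')),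
            show n ≠ i by omega]
      have e : v = (v ^^^ 2 ^ n) ^^^ 2 ^ n := by
        rw [Nat.xor_assoc, Nat.xor_self, Nat.xor_zero]
      rw [e, phi_xor, Matrix.mulVec_add, ih (by omega) _ hlt, Wd_phi hw, hcol n (by omega),
        ← phi_xor, ← apD_xor]
    · refine ih (by omega) v (Nat.lt_pow_two_of_testBit _ fun i hi => ?_)
      rcases Nat.eq_or_lt_of_le hi with rfl | hi'
      · simpa using hb'
      · exact Nat.testBit_lt_two_pow (hv.trans_le (Nat.pow_le_pow_right two_pos hi'))

/-- A product of tables on all lanes. -/
noncomputable def apPs (Ls : List (List (ℕ × ℕ))) (X : ℕ) : ℕ := Ls.rec X fun L _ ih => apP L ih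

theorem apPs_cons (L : List (ℕ × ℕ)) (Ls : List (List (ℕ × ℕ))) (X : ℕ) :
    apPs (L :: Ls) X = apP L (apPs Ls X) := rfl

/-- A word with a table. -/
abbrev Piece : Type := List ℕ × List (ℕ × ℕ)

/-- The word of a list of pieces. -/
def pWord (ps : List Piece) : List ℕ := (ps.map Prod.fst).flatten

theorem pieces_spec : ∀ {ps : List Piece}, (∀ p ∈ ps, Rep p.1 p.2) → ∀ {k : ℕ}, k < 52 →
    lane (apPs (ps.map Prod.snd) unitsP) k < 2 ^ 52 ∧
    (Wd (pWord ps) : Matrix chevF4.Idx chevF4.Idx (ZMod 2)) *ᵥ phi (2 ^ k) =
      phi (lane (apPs (ps.map Prod.snd) unitsP) k)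
  | [], _, k, hk => by
    have hl := lane_unitsP
    simp only [List.all_eq_true, List.mem_range, beq_iff_eq] at hl
    show lane unitsP k < 2 ^ 52 ∧ _ = phi (lane unitsP k)
    rw [hl k hk, pWord]
    exact ⟨Nat.pow_lt_pow_right (by norm_num) hk, by simp [Wd_nil]⟩
  | p :: ps, hp, k, hk => by
    obtain ⟨hb, hv⟩ := hp p List.mem_cons_self
    obtain ⟨h1, h2⟩ := pieces_spec (ps := ps) (fun q hq => hp q (List.mem_cons_of_mem _ hq)) hk
    rw [List.map_cons, apPs_cons, lane_apP hb hk]
    refine ⟨apD_lt hb h1, ?_⟩
    rw [show pWord (p :: ps) = p.1 ++ pWord ps by simp [pWord], Wd_append, Units.val_mul,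
      ← Matrix.mulVec_mulVec, h2, hv _ h1]

/-- Two lists of pieces give the same element. -/
theorem Wd_eq_of_pieces {ps qs : List Piece} (hp : ∀ p ∈ ps, Rep p.1 p.2)
    (hq : ∀ p ∈ qs, Rep p.1 p.2)
    (h : apPs (ps.map Prod.snd) unitsP = apPs (qs.map Prod.snd) unitsP) :
    Wd (pWord ps) = Wd (pWord qs) := by
  refine Units.ext (Matrix.ext_of_mulVec_single fun col => ?_)
  rw [← phi_two_pow, (pieces_spec hp (enc_lt certF4.agrees col)).2,
    (pieces_spec hq (enc_lt certF4.agrees col)).2, h]

theorem rep_nil : Rep [] [] := ⟨fun q hq => absurd hq List.not_mem_nil, fun v _ => by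
  rw [Wd_nil, Units.val_one, Matrix.one_mulVec]; rfl⟩

end CfsgLib.ClassSquare.TitsSq
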