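import Cfsg.Agent.Lib.Tits.Words
import Cfsg.Agent.Lib.ClassSquare.TitsSq.Table

/-!
Every element of the Tits group is conjugate in `²F₄(2)` to a product of an even element of the
Sylow subgroup and one of sixteen fixed Weyl elements.
-/

set_option autoImplicit false
set_option maxRecDepth 100000

namespace CfsgLib.ClassSquare.TitsSq

open Cfsg.Lie CfsgLib.Chev CfsgLib.Chev.F4Two CfsgLib.Tits.Packed

/-- The letters of one simple Weyl element. -/
noncomputable def s3 (i : ℕ) : List ℕ := [tabF4.simple i, tabF4.neg (tabF4.simple i), tabF4.simple i]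

/-- The letters of a Weyl element. -/
noncomputable def nLetters (w : List ℕ) : List ℕ := w.flatMap s3

theorem Wd_nLetters : ∀ {w : List ℕ}, WordOK tabF4 w → Wd (nLetters w) = nW chevF4 (ZMod 2) w
  | [], _ => by simp [nLetters, Wd_nil, nW]
  | i :: w, hw => by
    have hp := certF4.simple_lt hw.head
    rw [show nLetters (i :: w) = s3 i ++ nLetters w from rfl, Wd_append, Wd_nLetters hw.tail,
      nW_cons]
    refine congrArg (· * _) ?_
    rw [nS, certF4.simple_eq hw.head, nU, certF4.neg_eq hp, Wd_eq_prod]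
    simp only [s3, List.map_cons, List.map_nil, List.prod_cons, List.prod_nil, mul_one,
      inv_one, ← mul_assoc]
    rw [show (-1 : ZMod 2) = 1 from by decide]

theorem cls_chk : eqP (nLetters [0, 3]) wA = true ∧ eqP (nLetters [1, 2, 1, 2]) wB = true := by
  decide +kernel

theorem img_wA : Img wA 1 := by
  have h := ((CfsgLib.Tits.img_gw 0).append (CfsgLib.Tits.img_gw 1)).append (CfsgLib.Tits.img_gw 0)
  simpa [CfsgLib.Tits.gw, wA] using h

theorem img_wB : Img wB 1 := by
  obtain ⟨al, hal, himg⟩ := imgs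
  have i25 : Img wX al := himg 25 (by simp [reps12])
  have i28 : Img (orbWord 28) 1 := himg 28 (by simp [reps12])
  have i25u : Img [27, 25, 30] al := by
    have h := (i25.append i28).congr gens_chk.2.1
    rwa [mul_one] at h
  have h := (i25.append (CfsgLib.Tits.img_gw 3)).append i25u
  rw [mul_one, hal] at h
  simpa [CfsgLib.Tits.gw, wB, wX] using h

/-- The letters of a word in the two classes. -/
noncomputable def clsLetters (M : List ℕ) : List ℕ := nLetters (clsWord dataTwF4.CL M)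

theorem img_clsLetters : ∀ {M : List ℕ}, (∀ j ∈ M, j < 2) → Img (clsLetters M) 1
  | [], _ => Img.one
  | j :: M, hM => by
    have e : clsLetters (j :: M) =
        nLetters (dataTwF4.CL.getD j ⟨[], []⟩).word ++ clsLetters M := by
      rw [clsLetters, show clsWord dataTwF4.CL (j :: M) = (dataTwF4.CL.getD j ⟨[], []⟩).word ++
        clsWord dataTwF4.CL M from rfl, nLetters, List.flatMap_append]
      rfl
    have h2 := img_clsLetters (M := M) fun i hi => hM i (List.mem_cons_of_mem _ hi)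
    have hj := hM j List.mem_cons_self
    rw [e, ← mul_one (1 : Abelianization ↥G2)]
    refine Img.append ?_ h2
    obtain ⟨hA, hB⟩ := cls_chk
    interval_cases j
    · exact img_wA.congr (by
        have := eqChk_of_eqP hA
        simp only [eqChk, Bool.and_eq_true, List.all_eq_true, decide_eq_true_eq] at this ⊢
        exact ⟨this.2.1, this.1, fun c hc => (this.2.2 c hc).symm⟩)
    · exact img_wB.congr (by
        have := eqChk_of_eqP hB
        simp only [eqChk, Bool.and_eq_true, List.all_eq_true, decide_eq_true_eq] at this ⊢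
        exact ⟨this.2.1, this.1, fun c hc => (this.2.2 c hc).symm⟩)

/-- The word of the `a`-th product of the first six root elements. -/
def hiW (a : ℕ) : List ℕ := ((cands (reps12.take 6)).getD a ([], false)).1

/-- The word of the `b`-th product of the last six root elements. -/
def loW (b : ℕ) : List ℕ := ((cands (reps12.drop 6)).getD b ([], false)).1

/-- The parity of a pair. -/
def oddU (a b : ℕ) : Bool :=
  xor ((cands (reps12.take 6)).getD a ([], false)).2 ((cands (reps12.drop 6)).getD b ([], false)).2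

/-- The word of the `k`-th Weyl element. -/
noncomputable def mW (k : ℕ) : List ℕ := clsLetters (canon.getD k [])

/-- The word of an element. -/
noncomputable def elW (k a b : ℕ) : List ℕ := hiW a ++ (loW b ++ mW k)

theorem cands_append : ∀ (L1 L2 : List ℕ) (c : List ℕ × Bool), c ∈ cands (L1 ++ L2) →
    ∃ c1 ∈ cands L1, ∃ c2 ∈ cands L2, c.1 = c1.1 ++ c2.1 ∧ c.2 = xor c1.2 c2.2
  | [], L2, c, hc => ⟨([], false), by simp [cands], c, hc, by simp, by simp⟩
  | r :: L, L2, c, hc => by
    simp only [List.cons_append, cands, List.mem_append, List.mem_map] at hc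
    rcases hc with hc | ⟨d, hd, rfl⟩
    · obtain ⟨c1, h1, c2, h2, e1, e2⟩ := cands_append L L2 c hc
      exact ⟨c1, by simp [cands, h1], c2, h2, e1, e2⟩
    · obtain ⟨c1, h1, c2, h2, e1, e2⟩ := cands_append L L2 d hd
      refine ⟨(orbWord r ++ c1.1, xor (odd4 r) c1.2),
        by simp only [cands, List.mem_append, List.mem_map]; exact Or.inr ⟨c1, h1, rfl⟩, c2, h2, ?_, ?_⟩
      · simp [e1, List.append_assoc]
      · rw [e2]; cases odd4 r <;> cases c1.2 <;> cases c2.2 <;> rfl

theorem split_chk : reps12.take 6 ++ reps12.drop 6 = reps12 ∧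
    (cands (reps12.take 6)).length = 64 ∧ (cands (reps12.drop 6)).length = 64 ∧ canon.length = 16 := by
  decide +kernel

theorem of_xx_ne_one : Abelianization.of xx ≠ (1 : Abelianization ↥G2) := fun h =>
  xx_not_mem (by rw [← Abelianization.ker_of ↥G2, MonoidHom.mem_ker]; exact h)

theorem img_mem_commutator {v : List ℕ} (hv : Img v 1) :
    ∃ h : Wd v ∈ G2, (⟨Wd v, h⟩ : ↥G2) ∈ commutator ↥G2 := by
  obtain ⟨h, e⟩ := hv
  exact ⟨h, by rw [← Abelianization.ker_of ↥G2, MonoidHom.mem_ker]; exact e⟩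

/-- The normal form up to conjugation. -/
theorem exists_form (g : ↥G2) (hg : g ∈ commutator ↥G2) :
    ∃ k < 16, ∃ a < 64, ∃ b < 64, oddU a b = false ∧
      ∃ h : ↥G2, ((h * g * h⁻¹ : ↥G2) : Matrix.GeneralLinearGroup chevF4.Idx (ZMod 2)) = Wd (elW k a b) := by
  have hd := dataOK_F4 (RingHom.id (ZMod 2))
  have hreps := repsF4 (RingHom.id (ZMod 2)) hf1 hK1
  have hgf : (g : Matrix.GeneralLinearGroup chevF4.Idx (ZMod 2)) ∈ endo2.fix := fix_eq.symm ▸ g.2
  obtain ⟨w, hw, hwc, m, -, hmf, hmn, hmM, b0, hb0, u, hu, eg⟩ := endo2.bruhat_fix hd.cls hreps hgf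
  obtain ⟨v, hv, t, ht, rfl⟩ := endo2.borel_fix.1 hb0
  have hdiag1 : ∀ t ∈ endo2.fix ⊓ chevF4.diagonalSubgroup (ZMod 2), t = 1 := by
    intro t ht
    have h1 := card_diagF4 (RingHom.id (ZMod 2)) hf1 hK1
    rw [ZMod.card, show (2 - 1) ^ 2 = 1 from rfl] at h1
    exact Subgroup.mem_bot.1 (Subgroup.card_eq_one.1 h1 ▸ ht)
  obtain rfl : t = 1 := hdiag1 t ht
  rw [mul_one] at eg
  -- the Weyl element
  obtain ⟨M0, hM0, e0⟩ := endo2.exists_cls_list hd.cls hw hwc
  obtain ⟨M, hM, e1⟩ := exists_canon (M := M0) fun j hj => hM0 j hj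
  have hchk := weylChk_all
  simp only [List.all_eq_true, Bool.and_eq_true, decide_eq_true_eq] at hchk
  have hM2 := (hchk M hM).2
  obtain ⟨k, hk, hkM⟩ := List.mem_iff_getElem.1 hM
  have hMk : canon.getD k [] = M := by rw [List.getD_eq_getElem _ _ hk, hkM]
  have hact : ∀ r < tabF4.n, Maps chevF4 m r (clsAct M r) := fun r hr => by
    rw [← e1 r hr]; show Maps chevF4 m r (rword tabF4 _ r); rw [← e0 r hr]; exact hmM r hr
  have hwM := wordOK_canon hM2
  obtain ⟨hcls, himgM⟩ : Wd (mW k) = nW chevF4 (ZMod 2) (clsWord dataTwF4.CL M) ∧ Img (mW k) 1 := by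
    rw [mW, hMk]
    exact ⟨Wd_nLetters hwM, img_clsLetters hM2⟩
  obtain rfl : m = Wd (mW k) := by
    have hmem : Wd (mW k) ∈ endo2.fix := fix_eq.symm ▸ himgM.choose
    have h1 : m⁻¹ * Wd (mW k) ∈ chevF4.diagonalSubgroup (ZMod 2) := by
      rw [hcls]
      exact Endo.diag_of_same_perm (h := certF4) hwM hwM hmn (certF4.nW_mem_monomial hwM) hact
        (fun r hr => certF4.Maps_nW hwM hr) fun _ _ => rfl
    have h2 := hdiag1 _ ⟨endo2.fix.mul_mem (endo2.fix.inv_mem hmf) hmem, h1⟩
    rw [inv_mul_eq_one] at h2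
    exact h2
  -- the unipotent part
  obtain ⟨huf, hucell⟩ := hu
  have huU := Endo.cellUnipotent_le_pos (h := certF4) hw hmM hucell
  let uG : ↥G2 := ⟨u, fix_eq ▸ huf⟩
  let vG : ↥G2 := ⟨v, fix_eq ▸ hv.1⟩
  obtain ⟨c, hc, hce⟩ := exists_cand (g := uG * vG) (mul_mem huU hv.2)
  have heq : ((uG * g * uG⁻¹ : ↥G2) : Matrix.GeneralLinearGroup chevF4.Idx (ZMod 2)) =
      Wd c.1 * Wd (mW k) := by
    rw [← hce]
    show u * (g : Matrix.GeneralLinearGroup chevF4.Idx (ZMod 2)) * u⁻¹ = u * v * Wd (mW k)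
    rw [eg]; group
  -- parity
  obtain ⟨al, hal, himg⟩ := imgs
  have hal' : al ≠ 1 := by
    have hi : Img wX al := himg 25 (by simp [reps12])
    rw [← Img.unique (⟨mem25, rfl⟩ : Img wX (Abelianization.of xx)) hi]
    exact of_xx_ne_one
  have hpar : c.2 = false := by
    have h1 := (img_cands hal reps12 himg c hc).append himgM
    obtain ⟨h2, e2⟩ := h1
    have h3 : (⟨Wd (c.1 ++ mW k), h2⟩ : ↥G2) = uG * g * uG⁻¹ :=
      Subtype.ext ((Wd_append _ _).trans heq.symm)
    have h4 : uG * g * uG⁻¹ ∈ commutator ↥G2 :=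
      (inferInstance : (commutator ↥G2).Normal).conj_mem g hg uG
    rw [← Abelianization.ker_of ↥G2, MonoidHom.mem_ker, ← h3, e2, mul_one] at h4
    cases hc2 : c.2 with
    | false => rfl
    | true => rw [hc2, if_pos rfl] at h4; exact absurd h4 hal'
  -- indices
  obtain ⟨e6, l1, l2, l3⟩ := split_chk
  obtain ⟨c1, h1, c2, h2, ec1, ec2⟩ := cands_append _ _ c (e6.symm ▸ hc)
  obtain ⟨a, ha, rfl⟩ := List.mem_iff_getElem.1 h1
  obtain ⟨b, hb, rfl⟩ := List.mem_iff_getElem.1 h2
  refine ⟨k, l3 ▸ hk, a, l1 ▸ ha, b, l2 ▸ hb, ?_, uG, ?_⟩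
  · rw [oddU, List.getD_eq_getElem _ _ ha, List.getD_eq_getElem _ _ hb, ← ec2, hpar]
  · rw [elW, hiW, loW, List.getD_eq_getElem _ _ ha, List.getD_eq_getElem _ _ hb, ← List.append_assoc,
      ← ec1, Wd_append, heq]

end CfsgLib.ClassSquare.TitsSq
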