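import Cfsg.Agent.Lib.ClassSquare.TitsSq.Reps
import Cfsg.Agent.Lib.ClassSquare.TitsSq.Block0
import Cfsg.Agent.Lib.ClassSquare.TitsSq.Block1
import Cfsg.Agent.Lib.ClassSquare.TitsSq.Block2
import Cfsg.Agent.Lib.ClassSquare.TitsSq.Block3
import Cfsg.Agent.Lib.ClassSquare.TitsSq.Block4
import Cfsg.Agent.Lib.ClassSquare.TitsSq.Block5
import Cfsg.Agent.Lib.ClassSquare.TitsSq.Block6
import Cfsg.Agent.Lib.ClassSquare.TitsSq.Block7

/-!
In the Tits group every nontrivial element is a product of two conjugates of one element of order five.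
-/

set_option autoImplicit false
set_option maxRecDepth 100000

namespace CfsgLib.ClassSquare.TitsSq

open Cfsg.Lie CfsgLib.Chev CfsgLib.Chev.F4Two CfsgLib.Tits CfsgLib.Tits.Packed

theorem blocks_ok : ∀ k < 16, blockOK k = true := by
  intro k hk
  interval_cases k
  exacts [block0, block1, block2, block3, block4, block5, block6, block7, block8, block9, block10,
    block11, block12, block13, block14, block15]

theorem twoConj_of_mem {g : ↥G2} (hg : g ∈ commutator ↥G2) (hne : g ≠ 1) :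
    TwoConj (g : Matrix.GeneralLinearGroup chevF4.Idx (ZMod 2)) := by
  obtain ⟨k, hk, a, ha, b, hb, hev, h, he⟩ := exists_form g hg
  have e1 : (k * 4096 + a * 64 + b) / 4096 = k := by omega
  have e2 : (k * 4096 + a * 64 + b) / 64 % 64 = a := by omega
  have e3 : (k * 4096 + a * 64 + b) % 64 = b := by omega
  have hP := forall_of_reps (P := fun z => z = 1 ∨ TwoConj z)
    (fun z hz h' hh' => hz.imp (fun e => by rw [e, mul_one, mul_inv_cancel]) fun t => t.conj hh')
    blocks_ok (fun n hn => good_rep hn) (n := k * 4096 + a * 64 + b) (by omega)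
    (by rw [e2, e3]; exact hev)
  simp only [wEl, e1, e2, e3, ← he, Subgroup.coe_mul, Subgroup.coe_inv] at hP
  rcases hP with hP | hP
  · exact absurd (Subtype.ext (conj_eq_one_iff.1 hP)) hne
  · have h2 := hP.conj (inv_mem h.2)
    rwa [show (h : Matrix.GeneralLinearGroup chevF4.Idx (ZMod 2))⁻¹ *
      ((h : Matrix.GeneralLinearGroup chevF4.Idx (ZMod 2)) * g *
        (h : Matrix.GeneralLinearGroup chevF4.Idx (ZMod 2))⁻¹) *
      (h : Matrix.GeneralLinearGroup chevF4.Idx (ZMod 2))⁻¹⁻¹ = g by group] at h2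

theorem square_tits : ∃ x : TitsGroup, Odd (orderOf x) ∧
    ∀ g, g ≠ 1 → ∃ u v, g = (u * x * u⁻¹) * (v * x * v⁻¹) := by
  have h5 : tEl le ^ 5 = 1 := by
    rw [← tEl_rep, tEl_eq_of_wEq rel5.1]; rfl
  refine ⟨tEl le, Odd.of_dvd_nat (by decide) (orderOf_dvd_of_pow_eq_one h5), fun g hg => ?_⟩
  obtain ⟨u, hu, v, hv, e⟩ := twoConj_of_mem g.2 fun h => hg (Subtype.ext h)
  obtain ⟨c, hc, hcom⟩ := exists_centraliser
  -- correct the conjugators inside the Tits group
  have fixup : ∀ u, u ∈ G2 → ∃ w : TitsGroup,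
      ((w * tEl le * w⁻¹ : TitsGroup) : Matrix.GeneralLinearGroup chevF4.Idx (ZMod 2)) =
        u * Wd wFive * u⁻¹ := by
    intro u hu
    by_cases hU : (⟨u, hu⟩ : ↥G2) ∈ commutator ↥G2
    · refine ⟨⟨_, hU⟩, ?_⟩
      simp [coe_tEl, wFive]
    · refine ⟨⟨⟨u, hu⟩ * c, (Subgroup.mul_mem_iff_of_index_two index_commutator).2
        (iff_of_false hU hc)⟩, ?_⟩
      simp only [Subgroup.coe_mul, Subgroup.coe_inv, coe_tEl, mul_inv_rev]
      show u * (c : Matrix.GeneralLinearGroup chevF4.Idx (ZMod 2)) * Wd wFive * _ = _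
      rw [mul_assoc u, hcom.eq]
      group
  obtain ⟨w1, e1⟩ := fixup u hu
  obtain ⟨w2, e2⟩ := fixup v hv
  refine ⟨w1, w2, Subtype.ext (Subtype.ext ?_)⟩
  rw [Subgroup.coe_mul, Subgroup.coe_mul, e1, e2, ← e]

end CfsgLib.ClassSquare.TitsSq
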