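import Cfsg.Agent.Lib.ClassSquare.TitsSq.Cert

/-!
The representatives as products of two conjugates of one element of order five, and an element outside
the Tits group centralising it.
-/

set_option autoImplicit false
set_option maxRecDepth 100000

namespace CfsgLib.ClassSquare.TitsSq

open Cfsg.Lie CfsgLib.Chev CfsgLib.Chev.F4Two CfsgLib.Tits CfsgLib.Tits.Packed

/-- The word of the element of order five. -/
def wFive : List ℕ := tW le

/-- The word of an element in Bruhat form. -/
noncomputable def bW (t : ℕ × ℕ × ℕ) : List ℕ :=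
  hiW (t.2.1 / 64 % 64) ++ (loW (t.2.1 % 64) ++ (mW (t.1 % 16) ++
    (hiW (t.2.2 / 64 % 64) ++ loW (t.2.2 % 64))))

/-- The parity of an element in Bruhat form. -/
def bOdd (t : ℕ × ℕ × ℕ) : Bool :=
  xor (oddU (t.2.1 / 64 % 64) (t.2.1 % 64)) (oddU (t.2.2 / 64 % 64) (t.2.2 % 64))

/-- The conjugate of the element of order five. -/
noncomputable def cW (t : ℕ × ℕ × ℕ) : List ℕ := bW t ++ (wFive ++ (bW t).reverse)

set_option maxHeartbeats 0 in
theorem rep_chk : (repData.all fun d => eqP (wEl d.1) (cW d.2.1 ++ cW d.2.2)) = true ∧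
    (repCodes.all fun n => n == 0 || (repData.map fun d => d.1).contains n) = true ∧
    wEl 0 = [] ∧ eqP (bW cenData ++ wFive) (wFive ++ bW cenData) = true ∧ bOdd cenData = true := by
  decide +kernel

theorem img_hi_lo {al : Abelianization ↥G2} (hal : al * al = 1)
    (himg : ∀ r ∈ reps12, Img (orbWord r) (if odd4 r then al else 1)) {a b : ℕ} (ha : a < 64)
    (hb : b < 64) : Img (hiW a ++ loW b) (if oddU a b then al else 1) := by
  obtain ⟨-, l1, l2, -⟩ := split_chk
  have h1 := img_cands hal (reps12.take 6) (fun r hr => himg r (List.mem_of_mem_take hr))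
    ((cands (reps12.take 6)).getD a ([], false)) (by
      rw [List.getD_eq_getElem _ _ (l1.symm ▸ ha)]
      exact List.getElem_mem _)
  have h2 := img_cands hal (reps12.drop 6) (fun r hr => himg r (List.mem_of_mem_drop hr))
    ((cands (reps12.drop 6)).getD b ([], false)) (by
      rw [List.getD_eq_getElem _ _ (l2.symm ▸ hb)]
      exact List.getElem_mem _)
  have h := h1.append h2
  have e : ∀ p q : Bool, (if p then al else 1) * (if q then al else 1) =
      if xor p q then al else 1 := by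
    intro p q; cases p <;> cases q <;> simp [hal]
  rw [e] at h
  exact h

theorem img_bW {al : Abelianization ↥G2} (hal : al * al = 1)
    (himg : ∀ r ∈ reps12, Img (orbWord r) (if odd4 r then al else 1)) (t : ℕ × ℕ × ℕ) :
    Img (bW t) (if bOdd t then al else 1) := by
  have m64 : ∀ x : ℕ, x % 64 < 64 := fun x => Nat.mod_lt _ (by norm_num)
  have h := ((img_hi_lo hal himg (m64 (t.2.1 / 64)) (m64 t.2.1)).append
    (mem_G2_mW (Nat.mod_lt t.1 (show 0 < 16 by norm_num)))).append
    (img_hi_lo hal himg (m64 (t.2.2 / 64)) (m64 t.2.2))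
  rw [mul_one] at h
  have e : ∀ p q : Bool, (if p then al else 1) * (if q then al else 1) =
      if xor p q then al else 1 := by
    intro p q; cases p <;> cases q <;> simp [hal]
  rw [e] at h
  simp only [bW, bOdd, List.append_assoc] at h ⊢
  convert h using 2
  exact if_congr Iff.rfl rfl rfl

theorem mem_bW (t : ℕ × ℕ × ℕ) : Wd (bW t) ∈ G2 := by
  obtain ⟨al, hal, himg⟩ := imgs
  exact (img_bW hal himg t).choose

theorem lt48_of_eqP {v w : List ℕ} (h : eqP v w = true) :
    (∀ r ∈ v, r < 48) ∧ (∀ r ∈ w, r < 48) := by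
  simp only [eqP, Bool.and_eq_true, List.all_eq_true, decide_eq_true_eq] at h
  exact ⟨h.1, h.2.1⟩

/-- A product of two conjugates of the chosen element by elements of `²F₄(2)`. -/
def TwoConj (z : Matrix.GeneralLinearGroup chevF4.Idx (ZMod 2)) : Prop :=
  ∃ u ∈ G2, ∃ v ∈ G2, z = u * Wd wFive * u⁻¹ * (v * Wd wFive * v⁻¹)

theorem TwoConj.conj {z h : Matrix.GeneralLinearGroup chevF4.Idx (ZMod 2)} (hz : TwoConj z)
    (hh : h ∈ G2) : TwoConj (h * z * h⁻¹) := by
  obtain ⟨u, hu, v, hv, rfl⟩ := hz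
  exact ⟨h * u, mul_mem hh hu, h * v, mul_mem hh hv, by group⟩

theorem good_rep {n : ℕ} (hn : n ∈ repCodes) : Wd (wEl n) = 1 ∨ TwoConj (Wd (wEl n)) := by
  obtain ⟨hd, hc, h0, -⟩ := rep_chk
  simp only [List.all_eq_true, Bool.or_eq_true, beq_iff_eq, List.contains_iff_mem,
    List.mem_map] at hd hc
  rcases hc n hn with rfl | ⟨d, hmem, rfl⟩
  · left; rw [h0, Wd_nil]
  · right
    have h := hd d hmem
    have hlt := (lt48_of_eqP h).2
    refine ⟨_, mem_bW d.2.1, _, mem_bW d.2.2, ?_⟩
    rw [Wd_eq_of_eqP h, Wd_append, cW, cW, Wd_append, Wd_append, Wd_append, Wd_append]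
    have hr : ∀ t, t = d.2.1 ∨ t = d.2.2 → ∀ r ∈ bW t, r < tabF4.n := by
      intro t ht r hr
      refine hlt r ?_
      rcases ht with rfl | rfl <;> simp [cW, hr]
    rw [Wd_reverse (hr _ (Or.inl rfl)), Wd_reverse (hr _ (Or.inr rfl))]
    simp only [mul_assoc]

/-- An element of `²F₄(2)` outside the Tits group commuting with the chosen element. -/
theorem exists_centraliser : ∃ c : ↥G2, c ∉ commutator ↥G2 ∧
    Commute (c : Matrix.GeneralLinearGroup chevF4.Idx (ZMod 2)) (Wd wFive) := by
  obtain ⟨-, -, -, hcom, hodd⟩ := rep_chk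
  obtain ⟨al, hal, himg⟩ := imgs
  obtain ⟨hm, he⟩ := img_bW hal himg cenData
  rw [if_pos hodd] at he
  refine ⟨⟨_, hm⟩, ?_, ?_⟩
  · rw [← Abelianization.ker_of ↥G2, MonoidHom.mem_ker, he]
    have hi : Img wX al := himg 25 (by simp [reps12])
    rw [← Img.unique (⟨mem25, rfl⟩ : Img wX (Abelianization.of xx)) hi]
    exact of_xx_ne_one
  · show Wd (bW cenData) * Wd wFive = Wd wFive * Wd (bW cenData)
    rw [← Wd_append, ← Wd_append, Wd_eq_of_eqP hcom]

end CfsgLib.ClassSquare.TitsSq
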